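import Groth.Agent.CohDim.K685.ResolAmple
import Groth.Agent.Surf.K459.Bidual
import Groth.Agent.Sga2.PnHomExact
import Groth.Agent.Krr.H492.DualK
import Groth.Agent.Dcoh.Spread
import Groth.Agent.Sga2.PnCoprod

/-!
# A finite locally free module embeds locally split in sums of powers of an ample module

`exists_split_mono`: for `F` finite locally free and `A` ample on a proper `k`-scheme there is
`i : F ⟶ ∐_{Fin s} A^m` whose pullback along every morphism is a monomorphism.
-/

set_option autoImplicit false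
universe u
open CategoryTheory CategoryTheory.Limits AlgebraicGeometry Opposite

namespace K83.SplitMono

open Groth.Agent Groth.Agent.CohqB.HomSheaf Groth.Agent.Sga2.PnHomExact Groth.Agent.Sga2.PnHomAdj
open Groth.Agent.Krr.H492.DualK
open Groth.Agent.Grpsch.PicGrp (mk mk_eq_iff mk_mul_mk mk_tensorPow inv_mk isInvertible_dual)

variable {X : Scheme.{u}}

/-- The dual of a finite coproduct of copies of `B` is a finite coproduct of copies of the dual. -/
theorem dl_coproduct {κ : Type u} [Finite κ] (B C : X.Modules) (e : dl B ≅ C) :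
    ∃ s : ℕ, Nonempty (dl (∐ fun _ : κ => B) ≅ ∐ fun _ : Fin s => C) := by
  obtain ⟨s, ⟨f⟩⟩ := Finite.exists_equiv_fin κ
  refine ⟨s, ⟨?_⟩⟩
  have := Fintype.ofFinite κ
  have : HasFiniteBiproducts X.Modules := Abelian.hasFiniteBiproducts
  have : PreservesFiniteProducts (homFL (Coh.structureModule X)) :=
    Functor.preservesFiniteProductsOfAdditive _
  let e1 : dl (∐ fun _ : κ => B) ≅
      (homFL (Coh.structureModule X)).obj (∏ᶜ fun _ : κ => (op B : X.Modulesᵒᵖ)) :=
    (homFL (Coh.structureModule X)).mapIso (opCoproductIsoProduct fun _ : κ => B)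
  let e2 : (homFL (Coh.structureModule X)).obj (∏ᶜ fun _ : κ => (op B : X.Modulesᵒᵖ)) ≅
      ∏ᶜ fun _ : κ => (homFL (Coh.structureModule X)).obj (op B) := PreservesProduct.iso _ _
  let e3 : (∏ᶜ fun _ : κ => (homFL (Coh.structureModule X)).obj (op B)) ≅ ∏ᶜ fun _ : κ => C :=
    Pi.mapIso fun _ => e
  let e4 : (∏ᶜ fun _ : κ => C) ≅ ∐ fun _ : κ => C :=
    (biproduct.isoProduct _).symm ≪≫ biproduct.isoCoproduct _
  let e5 : (∐ fun _ : κ => C) ≅ ∐ fun _ : Fin s => C :=
    Sigma.whiskerEquiv f fun _ => Iso.refl C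
  exact e1 ≪≫ e2 ≪≫ e3 ≪≫ e4 ≪≫ e5

/-- The dual of a power of the inverse of `A` is a power of `A`. -/
theorem dl_pow {A M : X.Modules} (hA : PicF.IsInvertible A) (hM : ClSub.IsInverseOf M A) (n : ℕ) :
    Nonempty (dl (CohB1.tensorPow M n) ≅ CohB1.tensorPow A n) := by
  have hMi := K685.ResolAmple.isInvertible_of_isInverseOf hA hM
  have hMn := Fdesc.LocGen.isInvertible_tensorPow hMi n
  have hAn := Fdesc.LocGen.isInvertible_tensorPow hA n
  have h1 : mk M hMi * mk A hA = 1 := by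
    obtain ⟨e⟩ := hM
    rw [mk_mul_mk, Grpsch.PicGrp.mk_eq_one_iff]
    exact ⟨e⟩
  have h2 : mk _ (isInvertible_dual hMn) = mk _ hAn := by
    rw [← inv_mk hMn, inv_eq_iff_mul_eq_one, mk_tensorPow hMi, mk_tensorPow hA, ← mul_pow, h1, one_pow]
  exact (mk_eq_iff _ _).1 h2

theorem exists_split_mono (k : Type u) [Field k] (X : Scheme.{u}) [X.Over (Spec (CommRingCat.of k))]
    [IsProper (X ↘ Spec (CommRingCat.of k))] (A : X.Modules) (hA : CohB1.IsAmple A) (F : X.Modules)
    (hF : FlatMod.IsFinLocFree F) :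
    ∃ (m s : ℕ) (i : F ⟶ ∐ (fun _ : Fin s => CohB1.tensorPow A m)),
      ∀ {T : Scheme.{u}} (g : T ⟶ X), Mono ((Scheme.Modules.pullback g).map i) := by
  obtain ⟨M, hMi, ⟨eM⟩⟩ := Grpsch.PicGrp.exists_inverse hA.1
  have hM : ClSub.IsInverseOf M A := ⟨Ega2.Tens.swap M A ≪≫ eM⟩
  have hV : FlatMod.IsFinLocFree (dl F) := isFinLocFree_dl hF
  obtain ⟨E, π, ⟨m, -, κ, hκ, ⟨eE⟩⟩, hπ⟩ := K685.ResolAmple.exists_negSum hA hM 0
    (PerfA.CohSerre.isCoh_of_isFinLocFree hV)
  obtain ⟨eD⟩ := dl_pow hA.1 hM m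
  obtain ⟨s, ⟨eS⟩⟩ := dl_coproduct (κ := κ) (CohB1.tensorPow M m) (CohB1.tensorPow A m) eD
  have hMm : FlatMod.IsFinLocFree (CohB1.tensorPow M m) :=
    isFinLocFree_of_isInvertible (Fdesc.LocGen.isInvertible_tensorPow hMi m)
  have hE : FlatMod.IsFinLocFree E :=
    Dcoh.FinLocFree.isFinLocFree_of_iso eE.symm (Sga2.PnCoprod.isFinLocFree_coproduct _ fun _ => hMm)
  -- the kernel of `π` and the dual sequence
  have hK : FlatMod.IsFinLocFree (kernel π) := Dcoh.Spread.isFinLocFree_kernel π hE hV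
  have hS : (ShortComplex.mk (kernel.ι π) π (kernel.condition π)).ShortExact :=
    { exact := ShortComplex.exact_kernel π
      mono_f := inferInstance
      epi_g := hπ }
  have hD := shortExact_homSC hS (Ega2.QCohLocal.isQCoh_of_isFinLocFree hK)
    (Ega2.QCohLocal.isQCoh_of_isFinLocFree hE) hV (Coh.structureModule X)
  have hbi := K459.Bidual.isIso_ev hF (Fdesc.LocGen.isInvertible_structureModule (X := X))
  let bi : F ≅ dl (dl F) := @asIso _ _ _ _ _ hbi
  let eT : dl E ≅ ∐ fun _ : Fin s => CohB1.tensorPow A m :=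
    (homFL (Coh.structureModule X)).mapIso eE.op.symm ≪≫ eS
  refine ⟨m, s, bi.hom ≫ homMapLeft π (Coh.structureModule X) ≫ eT.hom, fun {T} g => ?_⟩
  have h1 : Mono ((Scheme.Modules.pullback g).map (homMapLeft π (Coh.structureModule X))) :=
    (Krr.H496.PullK0.shortExact_pullback_of_isFinLocFree g hD (isFinLocFree_dl hK)).mono_f
  rw [Functor.map_comp, Functor.map_comp]
  infer_instance

end K83.SplitMono
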